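import Groth.Agent.DevLib.Power
import Groth.Agent.DCohLib.ClosedPush
import Groth.Agent.DCohLib.PerfCoh
import Groth.Agent.SpDegen.Top
import Groth.Agent.CMRegLib.Seq
import Groth.Agent.H1ZeroLib.Relative
import Groth.Agent.S0028
import Groth.Agent.GenBCLib.Scal

/-!
Cohomology in high degrees only depends on the restriction of a coherent module to the complement of a
closed subscheme of small cohomological dimension.
-/

set_option autoImplicit false
set_option backward.isDefEq.respectTransparency false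
set_option linter.style.haveILetI false

universe u

open CategoryTheory CategoryTheory.Limits AlgebraicGeometry TopologicalSpace Opposite
open Groth.Agent.PullbackMod Groth.Agent.QCohLib Groth.Agent.DCohLib

noncomputable section

namespace Groth.Agent.SuppHHLib

variable {X : Scheme.{u}}

theorem bijective_hmap {S : ShortComplex X.Modules} (hS : S.ShortExact) (i : ℕ) (hi : 1 ≤ i) :
    ((Subsingleton (Coh.HH X S.X₁ i) ∧ Subsingleton (Coh.HH X S.X₁ (i + 1))) →
      Function.Bijective (Sheaf.H.map ((toAbF X).map S.g) i)) ∧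
    ((Subsingleton (Coh.HH X S.X₃ i) ∧ Subsingleton (Coh.HH X S.X₃ (i - 1))) →
      Function.Bijective (Sheaf.H.map ((toAbF X).map S.f) i)) := by
  have hT := toAb_shortExact hS
  constructor
  · rintro ⟨h1, h2⟩
    have h1' : Subsingleton (Sheaf.H ((S.map (toAbF X)).X₁) i) := h1
    have h2' : Subsingleton (Sheaf.H ((S.map (toAbF X)).X₁) (i + 1)) := h2
    refine ⟨(injective_iff_map_eq_zero _).2 fun z hz => ?_, fun z => ?_⟩
    · obtain ⟨y, hy⟩ := Abelian.Ext.covariant_sequence_exact₂ _ hT z hz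
      rw [← hy, @Subsingleton.elim _ h1' y 0, Abelian.Ext.zero_comp]
    · exact Abelian.Ext.covariant_sequence_exact₃ _ hT z rfl (@Subsingleton.elim _ h2' _ _)
  · rintro ⟨h1, h2⟩
    obtain ⟨n, rfl⟩ : ∃ n, i = n + 1 := ⟨i - 1, by omega⟩
    have h1' : Subsingleton (Sheaf.H ((S.map (toAbF X)).X₃) (n + 1)) := h1
    have h2' : Subsingleton (Sheaf.H ((S.map (toAbF X)).X₃) n) := h2
    refine ⟨(injective_iff_map_eq_zero _).2 fun z hz => ?_, fun z => ?_⟩
    · obtain ⟨y, hy⟩ := Abelian.Ext.covariant_sequence_exact₁ _ hT z hz rfl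
      rw [← hy, @Subsingleton.elim _ h2' y 0, Abelian.Ext.zero_comp]
    · exact Abelian.Ext.covariant_sequence_exact₂ _ hT z (@Subsingleton.elim _ h1' _ _)

variable {Z : Scheme.{u}} (ι : Z ⟶ X) [IsClosedImmersion ι]

theorem nonempty_HH_push (G : Z.Modules) [Coh.IsQCoh G] (i : ℕ) :
    Nonempty (Coh.HH Z G i ≃+ Coh.HH X ((Scheme.Modules.pushforward ι).obj G) i) := by
  obtain ⟨e⟩ := SpDegen.nonempty_leray_acyclic_push ι.base (Coh.toAb G)
    (fun q => S0028.result ι G (q + 1) q.succ_pos) i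
  exact ⟨e⟩

theorem suppOn_piece {ξ : X} (hξ : ξ ∈ Set.range ι.base) {Q : X.Modules} (hQ : DevLib.IsPiece ξ Q) : SuppOn ι Q where
  subsingleton y hy := by
    by_contra h
    exact hy ((hQ.supp y h).mem_closed ι.isClosedEmbedding.isClosed_range hξ)
  smul_eq_zero x a ha z := by
    obtain ⟨m, hm, ⟨e⟩⟩ := isSimpleModule_iff_quot_maximal.1 hQ.simple
    obtain rfl := IsLocalRing.eq_maximalIdeal hm
    by_cases hsp : ξ ⤳ ι x
    swap
    · exact @Subsingleton.elim _ (by by_contra h; exact hsp (hQ.supp _ h)) _ _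
    obtain ⟨ζ, rfl⟩ := hξ
    have hζ : ζ ⤳ x := ι.isClosedEmbedding.isInducing.specializes_iff.1 hsp
    obtain ⟨W, hW, a, rfl⟩ := TopCat.Presheaf.exists_germ_eq X.presheaf a
    obtain ⟨U, hU, s, rfl⟩ := TopCat.Presheaf.exists_germ_eq Q.presheaf z
    have hx : ι x ∈ W ⊓ U := ⟨hW, hU⟩
    rw [← Q.presheaf.germ_res_apply (homOfLE (inf_le_right : W ⊓ U ≤ U)) (ι x) hx s,
      ← X.presheaf.germ_res_apply (homOfLE (inf_le_left : W ⊓ U ≤ W)) (ι x) hx a, ← ParaFLib.germ_smul']
    rw [hQ.tf (W ⊓ U) (X.presheaf.map (homOfLE inf_le_left).op a • Q.presheaf.map (homOfLE inf_le_right).op s)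
      fun hζ' => ?_, map_zero]
    rw [ParaFLib.germ_smul']
    refine e.injective ?_
    rw [map_smul, map_zero]
    obtain ⟨w, hw⟩ := Ideal.Quotient.mk_surjective (e (Q.presheaf.germ (W ⊓ U) (ι ζ) hζ'
      (Q.presheaf.map (homOfLE inf_le_right).op s)))
    rw [← hw, Algebra.smul_def, Ideal.Quotient.algebraMap_eq, ← map_mul, Ideal.Quotient.eq_zero_iff_mem]
    refine Ideal.mul_mem_right _ _ (mem_nonunits_iff.2 fun hu => ?_)
    rw [Scheme.Hom.germ_stalkMap_apply] at ha
    rw [TopCat.Presheaf.germ_res_apply] at hu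
    have h0 := hu.map (ι.stalkMap ζ).hom
    change IsUnit (ι.stalkMap ζ (X.presheaf.germ W (ι ζ) hζ'.1 a)) at h0
    rw [Scheme.Hom.germ_stalkMap_apply] at h0
    have h1 := congrArg (Z.presheaf.stalkSpecializes hζ) ha
    rw [map_zero, TopCat.Presheaf.germ_stalkSpecializes_apply] at h1
    exact h0.ne_zero h1

theorem subsingleton_of_support [IsNoetherian X] (k : ℕ)
    (hcd : ∀ G : Z.Modules, Coh.IsQCoh G → ∀ i : ℕ, k + 1 ≤ i → Subsingleton (Coh.HH Z G i))
    {M : X.Modules} (hM : Coh.IsCoh M) (hsupp : CohB1.support M ⊆ Set.range ι.base) (i : ℕ) (hi : k + 1 ≤ i) :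
    Subsingleton (Coh.HH X M i) := by
  revert i
  refine DevLib.devissage (Set.range ι.base) (fun M => ∀ i, k + 1 ≤ i → Subsingleton (Coh.HH X M i))
    ?_ ?_ ?_ ?_ M hM hsupp
  · rintro M N ⟨e⟩ h i hi
    haveI := h i hi
    exact ProjCoh.subsingleton_of_iso e i
  · exact fun M hM i _ => CMRegLib.subsingleton_zero hM i
  · exact fun S hS _ _ _ _ h1 h3 i hi => SerreAff.subsingleton_mid hS i (h1 i hi) (h3 i hi)
  · intro ξ hξ _ Q hQ _ i hi
    haveI := isIso_unit_of_suppOn ι (suppOn_piece ι hξ hQ)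
    haveI := hQ.coh.1
    haveI := (PullbackMod.isCoh_pullback ι _ hQ.coh).1
    obtain ⟨e⟩ := nonempty_HH_push ι ((Scheme.Modules.pullback ι).obj Q) i
    have h : Subsingleton (Coh.HH X ((Scheme.Modules.pushforward ι).obj ((Scheme.Modules.pullback ι).obj Q)) i) :=
      @Equiv.subsingleton _ _ e.symm.toEquiv (hcd _ inferInstance i hi)
    exact @ProjCoh.subsingleton_of_iso _ _ _
      (asIso ((Scheme.Modules.pullbackPushforwardAdjunction ι).unit.app Q)).symm i h

theorem bijective_stalkLin_of_restrict (U : X.Opens) {F G : X.Modules} (φ : F ⟶ G)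
    [IsIso ((Scheme.Modules.restrictFunctor U.ι).map φ)] (y : X) (hy : y ∈ U) :
    Function.Bijective (stalkLin φ y) := by
  let η := Scheme.Modules.restrictStalkNatIso U.ι ⟨y, hy⟩
  have h := η.hom.naturality φ
  haveI : IsIso ((TopCat.Presheaf.stalkFunctor Ab y).map ((Scheme.Modules.toPresheaf X).map φ)) :=
    (NatIso.isIso_map_iff η φ).1 (inferInstanceAs (IsIso
      ((Scheme.Modules.toPresheaf (U : Scheme.{u}) ⋙
        TopCat.Presheaf.stalkFunctor AddCommGrpCat.{u} (X := (U : Scheme.{u}).toPresheafedSpace.carrier) ⟨y, hy⟩).map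
        ((Scheme.Modules.restrictFunctor U.ι).map φ))))
  exact ConcreteCategory.bijective_of_isIso ((TopCat.Presheaf.stalkFunctor Ab y).map ((Scheme.Modules.toPresheaf X).map φ))

theorem bijective_of_iso_off [IsNoetherian X] (k : ℕ)
    (hcd : ∀ G : Z.Modules, Coh.IsQCoh G → ∀ i : ℕ, k + 1 ≤ i → Subsingleton (Coh.HH Z G i))
    (U : X.Opens) (hU : (U : Set X) = (Set.range ι.base)ᶜ) {F G : X.Modules} (hF : Coh.IsCoh F) (hG : Coh.IsCoh G)
    (φ : F ⟶ G) [IsIso ((Scheme.Modules.restrictFunctor U.ι).map φ)] (i : ℕ) (hi : k + 2 ≤ i) :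
    Function.Bijective (Sheaf.H.map ((toAbF X).map φ) i) := by
  have hbij : ∀ y, y ∉ Set.range ι.base → Function.Bijective (stalkLin φ y) := fun y hy =>
    bijective_stalkLin_of_restrict U φ y (by rw [← SetLike.mem_coe, hU]; exact hy)
  let π := cokernel.π (kernel.ι φ)
  let m : cokernel (kernel.ι φ) ⟶ G := cokernel.desc (kernel.ι φ) φ (kernel.condition φ)
  haveI : Mono m := inferInstanceAs (Mono (Abelian.factorThruCoimage φ))
  have hfac : π ≫ m = φ := cokernel.π_desc _ _ _
  have hK := (isCoh_kernel_cokernel φ hF hG).1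
  have hI := (isCoh_kernel_cokernel (kernel.ι φ) hK hF).2
  have hS1 : (ShortComplex.mk (kernel.ι φ) π (cokernel.condition _)).ShortExact :=
    { exact := ShortComplex.exact_cokernel _
      mono_f := inferInstanceAs (Mono (kernel.ι φ)), epi_g := inferInstanceAs (Epi (cokernel.π _)) }
  have hS2 : (ShortComplex.mk m (cokernel.π m) (cokernel.condition _)).ShortExact :=
    { exact := ShortComplex.exact_cokernel _
      mono_f := inferInstanceAs (Mono m), epi_g := inferInstanceAs (Epi (cokernel.π _)) }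
  have hC := (isCoh_kernel_cokernel m hI hG).2
  have hKs : CohB1.support (kernel φ) ⊆ Set.range ι.base := by
    intro y hy
    by_contra hc
    refine hy (subsingleton_of_forall_eq 0 fun z => ?_)
    refine (mono_iff_stalk (kernel.ι φ)).1 inferInstance y ((hbij y hc).1 ?_)
    rw [← LinearMap.comp_apply, ← stalkLin_comp, kernel.condition, DevLib.stalkLin_zero, map_zero, map_zero]
    rfl
  have hCs : CohB1.support (cokernel m) ⊆ Set.range ι.base := by
    intro y hy
    by_contra hc
    refine hy (subsingleton_of_forall_eq 0 fun z => ?_)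
    obtain ⟨g, rfl⟩ := (epi_iff_stalk (cokernel.π m)).1 inferInstance y z
    obtain ⟨f, rfl⟩ := (hbij y hc).2 g
    rw [show stalkLin φ y f = stalkLin m y (stalkLin π y f) from
      (congrArg (fun t => stalkLin t y f) hfac.symm).trans (congr(($(stalkLin_comp π m y)) f)),
      ← LinearMap.comp_apply, ← stalkLin_comp, cokernel.condition, DevLib.stalkLin_zero]
    rfl
  have b1 := (bijective_hmap hS1 i (by omega)).1
    ⟨subsingleton_of_support ι k hcd hK hKs i (by omega), subsingleton_of_support ι k hcd hK hKs (i + 1) (by omega)⟩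
  have b2 := (bijective_hmap hS2 i (by omega)).2
    ⟨subsingleton_of_support ι k hcd hC hCs i (by omega), subsingleton_of_support ι k hcd hC hCs (i - 1) (by omega)⟩
  rw [← hfac, Functor.map_comp]
  refine (congrArg Function.Bijective (funext fun z => Sheaf.H.map_comp_apply _ _ z)).mpr ?_
  exact b2.comp b1

theorem nonempty_equiv_of_iso_off [IsNoetherian X] (k : ℕ)
    (hcd : ∀ G : Z.Modules, Coh.IsQCoh G → ∀ i : ℕ, k + 1 ≤ i → Subsingleton (Coh.HH Z G i))
    (U : X.Opens) (hU : (U : Set X) = (Set.range ι.base)ᶜ) {F F' : X.Modules} (hF : Coh.IsCoh F) (hF' : Coh.IsCoh F')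
    (e : F.restrict U.ι ≅ F'.restrict U.ι) (i : ℕ) (hi : k + 2 ≤ i) :
    Nonempty (Coh.HH X F i ≃+ Coh.HH X F' i) := by
  haveI := hF.1
  haveI := hF'.1
  let R := Scheme.Modules.restrictFunctor U.ι
  let adj := Scheme.Modules.restrictAdjunction U.ι
  haveI : Coh.IsQCoh (F.restrict U.ι) := GenBCLib.isQCoh_restrict F U
  haveI : Coh.IsQCoh ((Scheme.Modules.pushforward U.ι).obj (F.restrict U.ι)) :=
    QCohLib.isQCoh_pushforward (F.restrict U.ι) U.ι
  let P := (Scheme.Modules.pushforward U.ι).obj (F.restrict U.ι)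
  let a : F ⟶ P := adj.unit.app F
  let b : F' ⟶ P := adj.unit.app F' ≫ (Scheme.Modules.pushforward U.ι).map e.inv
  let c : (F ⊞ F' : X.Modules) ⟶ P := biprod.desc a b
  have hFF := DevLib.isCoh_biprod hF hF'
  haveI := hFF.1
  have hK : Coh.IsCoh (kernel c) := isCoh_of_mono (kernel.ι c) hFF (isQCoh_image c inferInstance inferInstance).1
  have hG := (isCoh_kernel_cokernel (kernel.ι c) hK hFF).2
  let π := cokernel.π (kernel.ι c)
  let m : cokernel (kernel.ι c) ⟶ P := cokernel.desc (kernel.ι c) c (kernel.condition c)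
  haveI : Mono m := inferInstanceAs (Mono (Abelian.factorThruCoimage c))
  have hfac : π ≫ m = c := cokernel.π_desc _ _ _
  haveI : PreservesFiniteLimits R := inferInstance
  have hunit : ∀ N : X.Modules, IsIso (R.map (adj.unit.app N)) := fun N => by
    have h := adj.left_triangle_components N
    haveI : IsIso (adj.counit.app (R.obj N)) := inferInstance
    haveI : IsIso (R.map (adj.unit.app N) ≫ adj.counit.app (R.obj N)) := by rw [h]; infer_instance
    exact IsIso.of_isIso_comp_right (R.map (adj.unit.app N)) (adj.counit.app (R.obj N))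
  have hiso : ∀ (N : X.Modules) (w : N ⟶ (F ⊞ F' : X.Modules)), IsIso (R.map (w ≫ c)) → IsIso (R.map (w ≫ π)) := by
    intro N w hw
    haveI : Mono (R.map m) := R.map_mono m
    have h : R.map (w ≫ π) ≫ R.map m = R.map (w ≫ c) := by rw [← R.map_comp, Category.assoc, hfac]
    haveI : IsIso (R.map (w ≫ π) ≫ R.map m) := h ▸ hw
    haveI : Epi (R.map (w ≫ π) ≫ R.map m) := IsIso.epi_of_iso _
    haveI : Epi (R.map m) := epi_of_epi (R.map (w ≫ π)) (R.map m)
    haveI : IsIso (R.map m) := isIso_of_mono_of_epi _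
    exact IsIso.of_isIso_comp_right (R.map (w ≫ π)) (R.map m)
  haveI : IsIso (R.map (biprod.inl ≫ π : F ⟶ cokernel (kernel.ι c))) :=
    hiso F biprod.inl (by rw [biprod.inl_desc]; exact hunit F)
  haveI : IsIso (R.map (biprod.inr ≫ π : F' ⟶ cokernel (kernel.ι c))) := hiso F' biprod.inr (by
    rw [biprod.inr_desc, R.map_comp]
    haveI := hunit F'
    haveI : IsIso ((Scheme.Modules.pushforward U.ι).map e.inv) := inferInstance
    infer_instance)
  exact ⟨(AddEquiv.ofBijective _ (bijective_of_iso_off ι k hcd U hU hF hG (biprod.inl ≫ π) i hi)).trans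
    (AddEquiv.ofBijective _ (bijective_of_iso_off ι k hcd U hU hF' hG (biprod.inr ≫ π) i hi)).symm⟩

end Groth.Agent.SuppHHLib
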